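import Groth.Agent.SurfAmpleLib.Ramanujam
import Groth.Agent.AmpleFinGenLib.Divisor
import Groth.Agent.PnDualLib.Embed
import Groth.Agent.MiscFlat6.AmpleTensor
import Groth.Agent.EffCartLib.Basic
import Groth.Agent.AmpleAffLib.Gen
import Groth.Agent.CurveVBLib.Basic
import Groth.Agent.NormalLib.Regular

/-!
# Vanishing of `H¹` of large negative powers of a nef and big module on a surface

If a power of `L` is `A^j` plus an effective divisor, removing the components of the divisor one by
one, always along a curve of negative degree (Hodge index), reduces `H¹(L^{-n})` to `H¹` of a negative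
multiple of an ample module.
-/

set_option autoImplicit false
set_option linter.style.haveILetI false
set_option linter.unusedSectionVars false
set_option backward.isDefEq.respectTransparency false
set_option backward.isDefEq.respectTransparency.types false
set_option maxHeartbeats 1000000
universe u

open CategoryTheory CategoryTheory.Limits AlgebraicGeometry TopologicalSpace Opposite
open HilbPolyLib DevissLib IntMultLib IntFunLib HodgeIdxLib

noncomputable section

namespace NefBigVanLib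

variable {k : Type u} [Field k] {X : Scheme.{u}} [X.Over (Spec (CommRingCat.of k))]
  [IsProper (X ↘ Spec (CommRingCat.of k))] [IsIntegral X]

omit [X.Over (Spec (CommRingCat.of k))] [IsProper (X ↘ Spec (CommRingCat.of k))] in
theorem nonempty_idealMod_top :
    Nonempty (ClSub.idealMod (⊤ : X.IdealSheafData) ≅ Coh.structureModule X) := by
  have hT := EffCartLib.isEffCartier_top (X := X)
  have hI := IntMultLib.isInvertible_idealMod _ hT
  obtain ⟨e⟩ := SurfNumLib.nonempty_idealMod_mul hT hT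
  have hm : (⊤ : X.IdealSheafData) * ⊤ = ⊤ := mul_one (⊤ : X.IdealSheafData)
  rw [hm] at e
  obtain ⟨d⟩ := MiscFlat6.nonempty_dualIso hI
  exact ⟨(swapIso _ _ ≪≫ unitLeft _).symm ≪≫ congrRight _ d.symm ≪≫ (assocIso _ _ _).symm ≪≫
    congrLeft e _ ≪≫ d⟩

/-- Divisors have nonnegative degree against a nef module. -/
theorem pr_ideal_nonpos (hX : topologicalKrullDim X = ((2 : ℕ) : WithBot ℕ∞)) {L : X.Modules}
    (hL : PicF.IsInvertible L)
    (hnef : ∀ c : X, topologicalKrullDim (closure ({c} : Set X)) = ((1 : ℕ) : WithBot ℕ∞) → 0 ≤ N k [L] (Fpt c))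
    {Y : X.IdealSheafData} (hY : BlowUp.IsEffCartierIdeal Y) : pr k (ClSub.idealMod Y) L ≤ 0 := by
  by_contra h
  push Not at h
  obtain ⟨c, hc, -, hneg⟩ := SurfAmpleLib.exists_curve_neg (k := k) hX hY hL h
  exact hneg.not_ge (hnef c hc)

/-- A nef module of positive square has positive degree against an ample one. -/
theorem pr_ample_pos_of_nef (hX : topologicalKrullDim X = ((2 : ℕ) : WithBot ℕ∞)) {L A : X.Modules}
    (hL : PicF.IsInvertible L) (hA : CohB1.IsAmple A)
    (hnef : ∀ c : X, topologicalKrullDim (closure ({c} : Set X)) = ((1 : ℕ) : WithBot ℕ∞) → 0 ≤ N k [L] (Fpt c))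
    (hq : 0 < pr k L L) : 0 < pr k L A := by
  haveI := CurvLib.isNoetherian k (X := X)
  have ha := pr_ample_pos (k := k) hX hA
  obtain ⟨m₀, hm₀⟩ := SurfNumLib.exists_section_pow (k := k) hX hA.1 hA ha ha.le
  obtain ⟨φ, hφ⟩ := CurvLib.exists_hom_ne_zero (L := CohB1.tensorPow A (m₀ + 1)) (hm₀ _ (Nat.le_succ _))
  have hP := AmpleThLib.tensorPow_isInvertible hA.1 (m₀ + 1)
  haveI := CurvLib.mono_of_ne_zero CurvLib.isInvertible_structureModule hP hφ
  have hZ := AmpleFinGenLib.isEffCartier_zeroScheme hP φ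
  obtain ⟨e⟩ := AmpleFinGenLib.idealMod_tensor_iso hP φ
  have hI := IntMultLib.isInvertible_idealMod _ hZ
  have h1 := pr_inverse (k := k) hX.le hI hP hL e
  have h2 := pr_ideal_nonpos (k := k) hX hL hnef hZ
  rw [pr, N2_pow_left hX.le hA.1 hL] at h1
  change ((m₀ + 1 : ℕ) : ℤ) * pr k A L = -pr k (ClSub.idealMod _) L at h1
  refine lt_of_le_of_ne ?_ (SurfNumLib.pr_pos_of_square hX hL hA hq).symm
  rw [pr_comm]
  exact nonneg_of_mul_nonneg_right (by rw [h1]; omega) (by positivity)

variable [IsAlgClosed k] [Smooth (X ↘ Spec (CommRingCat.of k))]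

/-- Removing from `T` a divisor all of whose tails have negative degree. -/
theorem descend (hX : topologicalKrullDim X = ((2 : ℕ) : WithBot ℕ∞)) {T : X.Modules} (hT : PicF.IsInvertible T)
    {J : X.IdealSheafData} (hJ : BlowUp.IsEffCartierIdeal J)
    (hneg : ∀ Y R : X.IdealSheafData, BlowUp.IsEffCartierIdeal Y → BlowUp.IsEffCartierIdeal R → R ≠ ⊤ → J = Y * R →
      0 < pr k (ClSub.idealMod R) (CohB1.tensorMod T (ClSub.idealMod Y)))
    (h1 : hh k T 1 = 0) : hh k (CohB1.tensorMod T (ClSub.idealMod J)) 1 = 0 := by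
  haveI := CurvLib.isNoetherian k (X := X)
  obtain ⟨H, hH⟩ := SurfAmpleLib.exists_ample_of_smooth k hX
  have hcart : ∀ c : X, topologicalKrullDim (closure ({c} : Set X)) = ((1 : ℕ) : WithBot ℕ∞) →
      BlowUp.IsEffCartierIdeal (ptIdeal c) := fun c hc => by
    haveI := isIntegral_ptIdeal c
    exact SurfNumLib.isEffCartier_curve k hX (WeilExtLib.isRegular_stalk_smooth (X ↘ Spec (CommRingCat.of k))) _
      (by rw [IntFunLib.dim_ptIdeal, hc, Nat.cast_one])
  have hneT : ∀ c : X, ptIdeal c ≠ ⊤ := fun c h => by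
    have : c ∈ ((ptIdeal c).support : Set X) := by
      rw [Scheme.IdealSheafData.coe_support_vanishingIdeal]; exact subset_closure rfl
    rw [h, Scheme.IdealSheafData.support_top] at this
    exact this
  suffices key : ∀ (d : ℕ) (Y R : X.IdealSheafData), BlowUp.IsEffCartierIdeal Y → BlowUp.IsEffCartierIdeal R →
      J = Y * R → (-pr k (ClSub.idealMod R) H).toNat = d →
      hh k (CohB1.tensorMod T (ClSub.idealMod Y)) 1 = 0 → hh k (CohB1.tensorMod T (ClSub.idealMod J)) 1 = 0 by
    obtain ⟨e⟩ := nonempty_idealMod_top (X := X)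
    refine key _ ⊤ J EffCartLib.isEffCartier_top hJ (one_mul J).symm rfl ?_
    rw [hh_congr (k := k) (congrRight T e ≪≫ swapIso _ _ ≪≫ unitLeft T) 1, h1]
  intro d
  induction d using Nat.strong_induction_on with
  | _ d ih =>
    intro Y R hY hR hYR hd hh1
    rcases eq_or_ne R ⊤ with rfl | hRne
    · have : J = Y := by
        rw [hYR]
        exact mul_one Y
      rwa [this]
    have hIY := IntMultLib.isInvertible_idealMod Y hY
    have hTY := HilbPolyLib.isInvertible_tensor hT hIY
    obtain ⟨c, hc, hcR, hcneg⟩ := SurfAmpleLib.exists_curve_neg (k := k) hX hR hTY (hneg Y R hY hR hRne hYR)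
    obtain ⟨R', hR', hR'e⟩ := SurfAmpleLib.exists_eq_mul hR (hcart c hc) (SurfAmpleLib.le_ptIdeal hcR)
    have hYC := AlgSpRegLib.isEffCartier_mul hY (hcart c hc)
    have hZe : J = (Y * ptIdeal c) * R' := by rw [hYR, ← hR'e, mul_assoc]
    have hlt : (-pr k (ClSub.idealMod R') H).toNat < d := by
      have h1 := SurfAmpleLib.N_mul (k := k) (hcart c hc) hR' (l := [H]) (by simpa using hH.1)
        (DevissLib.isCoh_structureModule X) ((topologicalKrullDim_subspace_le _ _).trans hX.le)
      rw [hR'e] at h1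
      change pr k (ClSub.idealMod R) H = pr k (ClSub.idealMod (ptIdeal c)) H + pr k (ClSub.idealMod R') H at h1
      have h2 := SurfNumLib.pr_effCartier_pos (k := k) hX (hcart c hc) (hneT c) hH
      have h3 : pr k (ClSub.idealMod R') H ≤ 0 := by
        rcases eq_or_ne R' ⊤ with rfl | h
        · have h4 := SurfAmpleLib.N_one (k := k) (X := X) (l := [H]) (by simpa using hH.1)
            (DevissLib.isCoh_structureModule X) ((topologicalKrullDim_subspace_le _ _).trans hX.le)
          exact h4.le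
        · exact (SurfNumLib.pr_effCartier_pos (k := k) hX hR' h hH).le
      omega
    refine ih _ hlt _ R' hYC hR' hZe rfl ?_
    haveI := isIntegral_ptIdeal c
    have hdc : topologicalKrullDim ((ptIdeal c).support : Set X) = 1 := by
      rw [IntFunLib.dim_ptIdeal, hc, Nat.cast_one]
    have h0 : hh k (CohB1.tensorMod (CohB1.tensorMod T (ClSub.idealMod Y)) (ClSub.quotMod (ptIdeal c))) 0 = 0 :=
      (SurfAmpleLib.h0_quot_bound (k := k) hTY _ hdc (show _ ≤ 0 from hcneg.le)).2 hcneg
    have hS := HilbPolyLib.shortExact_tensor hTY (CurvLib.idealSeq_shortExact (ptIdeal c))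
    have hle := hh_left_le (k := k) hS
      (HilbPolyLib.isCoh_tensor hTY (CurvLib.isCoh_of_isInvertible (IntMultLib.isInvertible_idealMod _ (hcart c hc))))
      (HilbPolyLib.isCoh_tensor hTY (DevissLib.isCoh_structureModule X))
      (HilbPolyLib.isCoh_tensor hTY (CurvLib.isCoh_quotMod _)) 0
    change hh k (CohB1.tensorMod (CohB1.tensorMod T (ClSub.idealMod Y)) (ClSub.idealMod (ptIdeal c))) 1 ≤
      hh k (CohB1.tensorMod (CohB1.tensorMod T (ClSub.idealMod Y)) (ClSub.quotMod (ptIdeal c))) 0 +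
      hh k (CohB1.tensorMod (CohB1.tensorMod T (ClSub.idealMod Y)) (Coh.structureModule X)) 1 at hle
    rw [h0, hh_congr (k := k) (swapIso _ _ ≪≫ unitLeft (CohB1.tensorMod T (ClSub.idealMod Y))) 1, hh1] at hle
    rw [← hh_congr (k := k) (assocIso _ _ _ ≪≫
      congrRight T (SurfNumLib.nonempty_idealMod_mul hY (hcart c hc)).some) 1]
    omega

/-- For `n ≫ 0` the first cohomology of `L^{-n}` vanishes. -/
theorem exists_vanishing (hX : topologicalKrullDim X = ((2 : ℕ) : WithBot ℕ∞)) {L L' : X.Modules}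
    (hL : PicF.IsInvertible L) (eL : CohB1.tensorMod L L' ≅ Coh.structureModule X)
    (hnef : ∀ c : X, topologicalKrullDim (closure ({c} : Set X)) = ((1 : ℕ) : WithBot ℕ∞) → 0 ≤ N k [L] (Fpt c))
    (hq : 0 < pr k L L) : ∃ n₀ : ℕ, ∀ n, n₀ ≤ n → hh k (CohB1.tensorPow L' n) 1 = 0 := by
  haveI := CurvLib.isNoetherian k (X := X)
  obtain ⟨A, hA⟩ := SurfAmpleLib.exists_ample_of_smooth k hX
  have hAd := MiscFlat6.dual_isInvertible hA.1
  obtain ⟨eA⟩ := MiscFlat6.nonempty_dualIso hA.1
  have hL' := IntMultLib.isInvertible_of_inverse hL eL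
  have hla := pr_ample_pos_of_nef (k := k) hX hL hA hnef hq
  have haa := pr_ample_pos (k := k) hX hA
  obtain ⟨t, ht⟩ : ∃ t : ℕ, 2 * pr k L A + pr k A A + 1 ≤ (t : ℤ) := ⟨_, Int.self_le_toNat _⟩
  have ht0 : 0 < t := by omega
  -- the big module `L^t ⊗ A⁻¹`
  have hLt := AmpleThLib.tensorPow_isInvertible hL t
  set P := CohB1.tensorMod (CohB1.tensorPow L t) (MiscFlat6.dual A) with hPdef
  have hP : PicF.IsInvertible P := HilbPolyLib.isInvertible_tensor hLt hAd
  have hPQ : ∀ Q : X.Modules, PicF.IsInvertible Q → pr k P Q = t * pr k L Q - pr k A Q := fun Q hQ => by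
    rw [hPdef, pr_tensor hX.le hLt hAd hQ, pr_inverse hX.le hA.1 hAd hQ eA, pr, N2_pow_left hX.le hL hQ]
    rfl
  have hPP : 0 < pr k P P := by
    rw [hPQ P hP, pr_comm L P, pr_comm A P, hPQ L hL, hPQ A hA.1, pr_comm A L]
    have htz : (0 : ℤ) ≤ (t : ℤ) := Int.natCast_nonneg t
    have h1q : (0 : ℤ) ≤ pr k L L - 1 := by omega
    nlinarith [mul_nonneg (mul_self_nonneg (t : ℤ)) h1q, mul_nonneg htz (sub_nonneg.2 ht)]
  have hPA : 0 ≤ pr k P A := by
    rw [hPQ A hA.1]
    nlinarith
  obtain ⟨m₀, hm₀⟩ := SurfNumLib.exists_section_pow (k := k) hX hP hA hPP hPA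
  -- vanishing of `H¹(L^{-r} ⊗ A^{-j})`
  have hdepth : ∀ (r : ℕ) (x : X), IsClosed ({x} : Set X) → ((2 : ℕ) : ℕ∞) ≤ LocCoh.depth (X.presheaf.stalk x)
      ((CohB1.tensorMod (Coh.structureModule X) (CohB1.tensorPow L' r)).presheaf.stalk x) := fun r x hx => by
    rw [PnDualLib.depth_tensor_invertible (AmpleThLib.tensorPow_isInvertible hL' r)]
    haveI := SurfNumLib.smoothRel_of_dim (k := k) hX
    haveI := CurveVBLib.regular_stalk (k := k) x
    obtain ⟨h1, h2⟩ := CIGen.closedPt_of_smooth (X ↘ Spec (CommRingCat.of k)) 2 x hx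
    have h3 := NormalLib.le_depth_self_of_isRegularLocalRing (X.presheaf.stalk x)
    rw [h2] at h3
    exact (WithBot.coe_le_coe.1 h3).trans_eq (CommAlgDim.depth_congr (CurvLib.stalkStructureEquiv x)).symm
  choose j₀ hj₀ using fun r : ℕ => PnDualLib.exists_vanishing_ample_neg k hA
    (show ClSub.IsInverseOf A (MiscFlat6.dual A) from ⟨eA⟩) _
    (HilbPolyLib.isCoh_tensor CurvLib.isInvertible_structureModule
      (CurvLib.isCoh_of_isInvertible (AmpleThLib.tensorPow_isInvertible hL' r))) 2 (hdepth r)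
  refine ⟨t * (m₀ + (Finset.range t).sup j₀ + 1), fun n hn => ?_⟩
  obtain ⟨j, r, hr, rfl⟩ : ∃ j r : ℕ, r < t ∧ n = t * j + r :=
    ⟨n / t, n % t, Nat.mod_lt _ ht0, (Nat.div_add_mod n t).symm⟩
  have hj : m₀ + (Finset.range t).sup j₀ + 1 ≤ j := by
    by_contra hlt
    push Not at hlt
    nlinarith
  have hjr : j₀ r ≤ j := le_trans (Finset.le_sup (Finset.mem_range.2 hr)) (by omega)
  -- the divisor
  have hPj := AmpleThLib.tensorPow_isInvertible hP j
  obtain ⟨φ, hφ⟩ := CurvLib.exists_hom_ne_zero (L := CohB1.tensorPow P j) (hm₀ j (by omega))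
  haveI := CurvLib.mono_of_ne_zero CurvLib.isInvertible_structureModule hPj hφ
  have hZ := AmpleFinGenLib.isEffCartier_zeroScheme hPj φ
  obtain ⟨eZ⟩ := AmpleFinGenLib.idealMod_tensor_iso hPj φ
  set J := PicF2.zeroScheme (CohB1.tensorPow P j) φ with hJdef
  have hIJ := IntMultLib.isInvertible_idealMod J hZ
  have hLr := AmpleThLib.tensorPow_isInvertible hL' r
  have hAj := AmpleThLib.tensorPow_isInvertible hAd j
  set T := CohB1.tensorMod (CohB1.tensorPow L' r) (CohB1.tensorPow (MiscFlat6.dual A) j) with hTdef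
  have hT : PicF.IsInvertible T := HilbPolyLib.isInvertible_tensor hLr hAj
  have hT1 : hh k T 1 = 0 := by
    haveI := hj₀ r j hjr 1 one_lt_two
    rw [hTdef, ← hh_congr (k := k) (congrLeft (unitLeft (CohB1.tensorPow L' r)) _) 1]
    exact Module.finrank_zero_of_subsingleton
  -- `T ⊗ I_J = L^{-n}`
  obtain ⟨f⟩ := MiscFlat6.exists_tensorPowIso hLt hAd j
  obtain ⟨g, -⟩ : ∃ g : CohB1.tensorPow (CohB1.tensorPow L t) j ≅ CohB1.tensorPow L (t * j), True :=
    ⟨(AmpleThLib.exists_powIso hL t j).choose, trivial⟩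
  obtain ⟨w⟩ := AmpleAffLib.nonempty_powInverse eL (t * j)
  obtain ⟨v⟩ := AmpleAffLib.nonempty_iso_of_inverse_unique (L := CohB1.tensorPow L (t * j))
    (M := CohB1.tensorMod (CohB1.tensorPow (MiscFlat6.dual A) j) (ClSub.idealMod J))
    ((assocIso _ _ _).symm ≪≫ congrLeft (congrLeft g.symm _ ≪≫ f) _ ≪≫ swapIso _ _ ≪≫ eZ) w
  obtain ⟨s⟩ := IntMultLib.nonempty_tensorPow_add L' r (t * j)
  let e : CohB1.tensorMod T (ClSub.idealMod J) ≅ CohB1.tensorPow L' (t * j + r) :=
    assocIso _ _ _ ≪≫ congrRight _ v ≪≫ s.symm ≪≫ eqToIso (by rw [add_comm])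
  rw [← hh_congr (k := k) e 1]
  refine descend hX hT hZ (fun Y R hY hR hRne hYR => ?_) hT1
  have hIY := IntMultLib.isInvertible_idealMod Y hY
  have hIR := IntMultLib.isInvertible_idealMod R hR
  obtain ⟨m⟩ := SurfNumLib.nonempty_idealMod_mul hY hR
  rw [← hYR] at m
  -- the classes
  have hTY : pr k (ClSub.idealMod R) (CohB1.tensorMod T (ClSub.idealMod Y)) =
      -((t * j + r : ℕ) : ℤ) * pr k (ClSub.idealMod R) L - pr k (ClSub.idealMod R) (ClSub.idealMod R) := by
    have h := N_congr_head (k := k) (congrRight T m ≪≫ e) [ClSub.idealMod R] (Coh.structureModule X)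
    change pr k (CohB1.tensorMod T (CohB1.tensorMod (ClSub.idealMod Y) (ClSub.idealMod R))) (ClSub.idealMod R) =
      pr k (CohB1.tensorPow L' (t * j + r)) (ClSub.idealMod R) at h
    rw [pr_tensor hX.le hT (HilbPolyLib.isInvertible_tensor hIY hIR) hIR, pr_tensor hX.le hIY hIR hIR,
      show pr k (CohB1.tensorPow L' (t * j + r)) (ClSub.idealMod R) = ((t * j + r : ℕ) : ℤ) * pr k L' (ClSub.idealMod R)
        from N2_pow_left hX.le hL' hIR _] at h
    rw [pr_inverse hX.le hL hL' hIR eL] at h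
    rw [pr_comm (ClSub.idealMod R) (CohB1.tensorMod T _), pr_tensor hX.le hT hIY hIR, pr_comm (ClSub.idealMod R) L]
    linarith
  have hJL : pr k (ClSub.idealMod J) L = -((j : ℤ) * (t * pr k L L - pr k A L)) := by
    have h := pr_inverse (k := k) hX.le hIJ hPj hL eZ
    rw [pr, N2_pow_left hX.le hP hL] at h
    change (j : ℤ) * pr k P L = _ at h
    rw [hPQ L hL] at h
    linarith
  have hsum : pr k (ClSub.idealMod J) L = pr k (ClSub.idealMod Y) L + pr k (ClSub.idealMod R) L := by
    rw [← pr_tensor hX.le hIY hIR hL]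
    exact N_congr_head m.symm _ _
  have hY0 := pr_ideal_nonpos (k := k) hX hL hnef hY
  have hR0 := pr_ideal_nonpos (k := k) hX hL hnef hR
  have hhodge := SurfNumLib.mul_le_sq_proper (k := k) hX hL hIR hq
  rw [hTY]
  by_contra hcon
  push Not at hcon
  set a := pr k (ClSub.idealMod R) L with ha
  set s := pr k (ClSub.idealMod R) (ClSub.idealMod R) with hs
  rcases eq_or_lt_of_le hR0 with h0 | hlt
  · refine SurfNumLib.curve_ne_zero_of_effCartier (k := k) hX hR hRne fun c hc => ?_
    exact SurfNumLib.curve_zero hX hL hIR hq h0 (by rw [← hs]; rw [h0] at hcon; linarith) hc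
  · have hab : -a ≤ (j : ℤ) * (t * pr k L L - pr k A L) := by linarith
    have hn' : ((t * j + r : ℕ) : ℤ) = t * j + r := by push_cast; ring
    rw [hn'] at hcon
    rw [pr_comm A L] at hab
    have hj1 : (1 : ℤ) ≤ j := by exact_mod_cast (by omega : 1 ≤ j)
    have hr0 : (0 : ℤ) ≤ r := Int.natCast_nonneg r
    -- `n (L·L) > -a`, so `n (-a) > a² / (L·L) ≥ s`
    have h3 : -a < ((t : ℤ) * j + r) * pr k L L := by
      nlinarith [mul_pos (lt_of_lt_of_le one_pos hj1) hla, mul_nonneg hr0 hq.le]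
    nlinarith [mul_lt_mul_of_pos_left h3 (neg_pos.mpr hlt)]

end NefBigVanLib

end
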