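import Groth.Agent.SurfAmpleLib.Ramanujam
import Groth.Agent.SurfAmpleLib.Adj
import Groth.Agent.SurfAmpleLib.Curve
import Groth.Agent.SurfAmpleLib.Fib
import Groth.Agent.SurfAmpleLib.Prod
import Groth.Agent.CurveH0Lib.Smooth

/-!
# Components of smooth fibres
-/

set_option autoImplicit false
set_option linter.style.haveILetI false
set_option linter.unusedSectionVars false
set_option backward.isDefEq.respectTransparency false
set_option backward.isDefEq.respectTransparency.types false
set_option maxHeartbeats 1000000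
universe u

open CategoryTheory CategoryTheory.Limits AlgebraicGeometry TopologicalSpace Opposite
open HilbPolyLib DevissLib IntMultLib IntFunLib HodgeIdxLib
open KFlatLib (pb puSec)
open TwistLib (genSet)

noncomputable section

namespace NefBigVanLib

/-- The subscheme of the kernel of a closed immersion is regular if the source is. -/
theorem isRegular_kerSubscheme {X Y : Scheme.{u}} (i : Y ⟶ X) [IsClosedImmersion i]
    (h : ∀ y : Y, IsRegularLocalRing (Y.presheaf.stalk y)) (z : i.ker.subscheme) :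
    IsRegularLocalRing (i.ker.subscheme.presheaf.stalk z) := by
  haveI := h ((inv i.toImage) z)
  exact IsRegularLocalRing.of_ringEquiv (asIso ((inv i.toImage).stalkMap z)).commRingCatIsoToRingEquiv

/-- Equal ideals on an affine open give equal local rings there. -/
theorem isRegular_of_ideal_eq {X : Scheme.{u}} {C J : X.IdealSheafData} (U : X.affineOpens)
    (h : C.ideal U = J.ideal U) (hJ : ∀ z : J.subscheme, IsRegularLocalRing (J.subscheme.presheaf.stalk z))
    (y : C.subscheme) (hy : C.subschemeι y ∈ U.1) : IsRegularLocalRing (C.subscheme.presheaf.stalk y) := by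
  obtain ⟨z, rfl⟩ : y ∈ (C.subschemeCover.f U).opensRange := by
    rw [C.opensRange_subschemeCover_map U]
    exact hy
  let G : C.glueDataObj U ⟶ J.glueDataObj U :=
    Spec.map (CommRingCat.ofHom (Ideal.quotEquivOfEq h).symm.toRingHom)
  haveI : IsIso (CommRingCat.ofHom (Ideal.quotEquivOfEq h).symm.toRingHom) :=
    (ConcreteCategory.isIso_iff_bijective _).2 (Ideal.quotEquivOfEq h).symm.bijective
  haveI : IsIso G := inferInstanceAs (IsIso (Spec.map _))
  haveI := hJ ((J.subschemeCover.f U) (G z))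
  exact IsRegularLocalRing.of_ringEquiv
    ((asIso ((G ≫ J.subschemeCover.f U).stalkMap z)).commRingCatIsoToRingEquiv.trans
      (asIso ((C.subschemeCover.f U).stalkMap z)).commRingCatIsoToRingEquiv.symm)

variable {k : Type u} [Field k] {X : Scheme.{u}} [X.Over (Spec (CommRingCat.of k))]
  [IsProper (X ↘ Spec (CommRingCat.of k))]

/-- A module with a section vanishing nowhere on a curve has degree zero on it. -/
theorem N_zero_of_section {P : X.Modules} (hP : PicF.IsInvertible P) (φ : Coh.structureModule X ⟶ P) {c : X}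
    (hc : topologicalKrullDim (closure ({c} : Set X)) = ((1 : ℕ) : WithBot ℕ∞))
    (hdis : ∀ x ∈ closure ({c} : Set X), x ∉ CohB1.support (cokernel φ)) : N k [P] (Fpt c) = 0 := by
  haveI := CurvLib.isNoetherian k (X := X)
  let σ := φ.app ⊤ (1 : Γ(X, ⊤))
  have hgen : ∀ x ∈ closure ({c} : Set X), x ∈ genSet hP σ := fun x hx => by
    refine IntMultLib.genAt_of_unitHom_surjective hP _ fun b => ?_
    rw [← SurfNumLib.eq_unitHom φ]
    have hex := (ShortComplex.moduleCat_exact_iff _).1
      ((ShortComplex.exact_cokernel φ).map (DerSch.stalkFunctor X x))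
    obtain ⟨a, ha⟩ := hex b (@Subsingleton.elim _ (not_not.mp (hdis x hx)) _ _)
    exact ⟨a, ha⟩
  haveI := isIntegral_ptIdeal c
  let W := (ptIdeal c).subscheme
  let g : W ⟶ X := (ptIdeal c).subschemeι
  letI : W.Over (Spec (CommRingCat.of k)) := ⟨g ≫ (X ↘ Spec (CommRingCat.of k))⟩
  haveI : IsProper (W ↘ Spec (CommRingCat.of k)) :=
    inferInstanceAs (IsProper (g ≫ (X ↘ Spec (CommRingCat.of k))))
  haveI := CurvLib.isNoetherian k (X := W)
  have hW : topologicalKrullDim W ≤ ((1 : ℕ) : WithBot ℕ∞) := by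
    rw [← hc]
    exact le_of_eq (g.isEmbedding.toHomeomorph.trans
      (Homeomorph.setCongr (range_ptIdeal c))).isHomeomorph.topologicalKrullDim_eq
  let τ : Γ(pb g P, ⊤) := puSec g σ
  have hτ : ∀ w : W, w ∈ genSet (AmpleDevLib.isInvertible_pb g hP) τ := fun w => by
    rw [AmpleDevLib.genSet_puSec g hP σ]
    exact hgen (g w) ((range_ptIdeal c).le ⟨w, rfl⟩)
  haveI : IsIso (QCohLib.unitHom (pb g P) τ) :=
    AmpleLib.isIso_unitHom τ (TwistLib.genOn_of_genAt fun w _ => hτ w)
  have h2 := N_push (k := k) (g := g) rfl (l := [P]) (by simpa using hP)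
    (DevissLib.isCoh_structureModule W) ((topologicalKrullDim_subspace_le _ _).trans (by simpa using hW))
  change N k [pb g P] (Coh.structureModule W) = N k [P] (Fpt c) at h2
  rw [← h2, ← euler_sub_eq_N, CurvLib.euler_congr (asIso (QCohLib.unitHom (pb g P) τ)).symm, sub_self]

variable [IsIntegral X]

omit [IsProper (X ↘ Spec (CommRingCat.of k))] [X.Over (Spec (CommRingCat.of k))] in
/-- A product of two divisors with regular (locally integral) subscheme: the factors do not meet. -/
theorem notMem_of_regular {J C R : X.IdealSheafData} (hJe : J = C * R) (hC : BlowUp.IsEffCartierIdeal C)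
    (hR : BlowUp.IsEffCartierIdeal R)
    (hreg : ∀ z : J.subscheme, IsRegularLocalRing (J.subscheme.presheaf.stalk z)) {x : X} (hxC : x ∈ C.support) :
    x ∉ R.support := by
  intro hxR
  obtain ⟨U₁, h₁, a, ha, hCa⟩ := hC x
  obtain ⟨U₂, h₂, b, hb, hRb⟩ := hR x
  obtain ⟨g, g', hgg, hx⟩ := exists_basicOpen_le_affine_inter U₁.2 U₂.2 x ⟨h₁, h₂⟩
  let V : X.affineOpens := X.affineBasicOpen g
  have hV₁ : V.1 ≤ U₁.1 := X.basicOpen_le g
  have hV₂ : V.1 ≤ U₂.1 := by
    show X.basicOpen g ≤ U₂.1
    rw [hgg]; exact X.basicOpen_le g'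
  haveI : Nonempty U₁.1 := ⟨⟨x, h₁⟩⟩
  haveI : Nonempty U₂.1 := ⟨⟨x, h₂⟩⟩
  haveI : Nonempty V.1 := ⟨⟨x, hx⟩⟩
  let a' : Γ(X, V.1) := X.presheaf.map (homOfLE hV₁).op a
  let b' : Γ(X, V.1) := X.presheaf.map (homOfLE hV₂).op b
  have ha' : a' ≠ 0 := fun h => nonZeroDivisors.ne_zero ha
    (map_injective_of_isIntegral X (homOfLE hV₁) (h.trans (map_zero _).symm))
  have hb' : b' ≠ 0 := fun h => nonZeroDivisors.ne_zero hb
    (map_injective_of_isIntegral X (homOfLE hV₂) (h.trans (map_zero _).symm))
  have hC' : C.ideal V = Ideal.span {a'} := by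
    rw [← C.map_ideal (U := V) (V := U₁) hV₁, hCa, Ideal.map_span, Set.image_singleton]; rfl
  have hR' : R.ideal V = Ideal.span {b'} := by
    rw [← R.map_ideal (U := V) (V := U₂) hV₂, hRb, Ideal.map_span, Set.image_singleton]; rfl
  have hJ' : J.ideal V = Ideal.span {a' * b'} := by
    rw [hJe, Scheme.IdealSheafData.ideal_mul, Pi.mul_apply, hC', hR', Ideal.span_singleton_mul_span_singleton]
  have hxJ : x ∈ J.support := by
    have : J ≤ C := hJe ▸ SurfAmpleLib.mul_le_left' C R
    exact Scheme.IdealSheafData.support_antitone this hxC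
  obtain ⟨y, rfl⟩ : x ∈ Set.range J.subschemeι := by rw [J.range_subschemeι]; exact hxJ
  haveI := hreg y
  haveI := CommAlgDim.isDomain_of_isRegularLocalRing (J.subscheme.presheaf.stalk y)
  let aa : Γ(J.subscheme, J.subschemeι ⁻¹ᵁ V.1) := J.subschemeι.app V.1 a'
  let bb : Γ(J.subscheme, J.subschemeι ⁻¹ᵁ V.1) := J.subschemeι.app V.1 b'
  have hab : aa * bb = 0 := by
    rw [← map_mul]
    have : a' * b' ∈ RingHom.ker (J.subschemeι.app V.1).hom := by
      rw [J.ker_subschemeι_app V, hJ']; exact Ideal.mem_span_singleton_self _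
    exact RingHom.mem_ker.mp this
  have hy : y ∈ J.subschemeι ⁻¹ᵁ V.1 := hx
  -- a factor vanishing near the point makes the other one invertible
  have key : ∀ (p q : Γ(X, V.1)), p ≠ 0 → J.ideal V = Ideal.span {p * q} →
      J.subscheme.presheaf.germ _ y hy (J.subschemeι.app V.1 p) = 0 →
      J.subschemeι y ∈ X.basicOpen q := by
    intro p q hp hJpq h0
    obtain ⟨W, hyW, iW, iW', hWeq⟩ := J.subscheme.presheaf.germ_eq y hy hy _ 0 (h0.trans (map_zero _).symm)
    obtain ⟨O, hO, hOW⟩ := J.subschemeι.isEmbedding.isInducing.isOpen_iff.mp W.2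
    obtain ⟨r, hrle, hxr⟩ := V.2.exists_basicOpen_le (V := ⟨O, hO⟩)
      ⟨J.subschemeι y, (by rw [← Set.mem_preimage, hOW]; exact hyW : J.subschemeι y ∈ O)⟩ hx
    let D : X.affineOpens := X.affineBasicOpen r
    have hDV : D.1 ≤ V.1 := X.basicOpen_le r
    haveI : Nonempty D.1 := ⟨⟨_, hxr⟩⟩
    let p' : Γ(X, D.1) := X.presheaf.map (homOfLE hDV).op p
    let q' : Γ(X, D.1) := X.presheaf.map (homOfLE hDV).op q
    have hDW : J.subschemeι ⁻¹ᵁ D.1 ≤ W := fun z hz => by
      have : J.subschemeι z ∈ O := hrle hz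
      rw [← Set.mem_preimage, hOW] at this
      exact this
    have hker : p' ∈ J.ideal D := by
      rw [← J.ker_subschemeι_app D, RingHom.mem_ker]
      have h1 := congrArg (J.subscheme.presheaf.map (homOfLE hDW).op) hWeq
      rw [map_zero, map_zero, ← CommRingCat.comp_apply, ← Functor.map_comp] at h1
      refine Eq.trans ?_ h1
      change (X.presheaf.map (homOfLE hDV).op ≫ J.subschemeι.app D.1) p = _
      rw [Scheme.Hom.naturality]
      rfl
    have hJD : J.ideal D = Ideal.span {p' * q'} := by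
      rw [← J.map_ideal (U := D) (V := V) hDV, hJpq, Ideal.map_span, Set.image_singleton, map_mul]; rfl
    rw [hJD, Ideal.mem_span_singleton'] at hker
    obtain ⟨t, ht⟩ := hker
    have hp' : p' ≠ 0 := fun h => hp (map_injective_of_isIntegral X (homOfLE hDV) (h.trans (map_zero _).symm))
    have hu : IsUnit q' := IsUnit.of_mul_eq_one t (mul_left_cancel₀ hp' (by linear_combination ht))
    have := (X.basicOpen_of_isUnit hu).ge hxr
    exact (X.basicOpen_res q (homOfLE hDV).op).le this |>.2
  rcases mul_eq_zero.1 (show J.subscheme.presheaf.germ _ y hy aa * J.subscheme.presheaf.germ _ y hy bb = 0 by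
    rw [← map_mul, hab, map_zero]) with h | h
  · have := key a' b' ha' hJ' h
    have hn := (Scheme.IdealSheafData.mem_support_iff_of_mem (U := V) hx).1 hxR
    rw [Scheme.mem_zeroLocus_iff] at hn
    exact hn b' (hR' ▸ Ideal.mem_span_singleton_self _) this
  · have := key b' a' hb' (by rw [hJ', mul_comm]) h
    have hn := (Scheme.IdealSheafData.mem_support_iff_of_mem (U := V) hx).1 hxC
    rw [Scheme.mem_zeroLocus_iff] at hn
    exact hn a' (hC' ▸ Ideal.mem_span_singleton_self _) this

variable (k) [IsAlgClosed k] [Smooth (X ↘ Spec (CommRingCat.of k))]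
  {Cb : Scheme.{u}} [Cb.Over (Spec (CommRingCat.of k))] [IsProper (Cb ↘ Spec (CommRingCat.of k))]
  [IsIntegral Cb] [Smooth (Cb ↘ Spec (CommRingCat.of k))]

include k in
/-- A component of a smooth fibre is a smooth curve of square zero. -/
theorem component_smooth_square_zero (hX : topologicalKrullDim X = ((2 : ℕ) : WithBot ℕ∞))
    (hB : topologicalKrullDim Cb = 1) (f : X ⟶ Cb) [Surjective f] {c : Cb} (hc : IsClosed ({c} : Set Cb))
    (hsm : Smooth (f.fiberToSpecResidueField c)) {c₁ : X}
    (hc₁ : topologicalKrullDim (closure ({c₁} : Set X)) = ((1 : ℕ) : WithBot ℕ∞))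
    (hmem : c₁ ∈ (f.fiberι c).ker.support) :
    N k [ClSub.idealMod (ptIdeal c₁)] (Fpt c₁) = 0 ∧
      Smooth ((ptIdeal c₁).subschemeι ≫ (X ↘ Spec (CommRingCat.of k))) := by
  haveI := CurvLib.isNoetherian k (X := X)
  haveI := isIntegral_ptIdeal c₁
  have hd : topologicalKrullDim ((ptIdeal c₁).support : Set X) = 1 := by
    rw [IntFunLib.dim_ptIdeal, hc₁, Nat.cast_one]
  have hC := SurfAmpleLib.isEffCartier_curve' k hX (ptIdeal c₁) hd
  have hJ := SurfAmpleLib.isEffCartier_fibre k hB f hc
  obtain ⟨R, hR, hRe⟩ := SurfAmpleLib.exists_eq_mul hJ hC (SurfAmpleLib.le_ptIdeal hmem)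
  haveI : IsClosedImmersion (Cb.fromSpecResidueField c) :=
    .of_isPreimmersion _ (by rw [Scheme.range_fromSpecResidueField]; exact hc)
  haveI : IsClosedImmersion (f.fiberι c) := inferInstanceAs (IsClosedImmersion (pullback.fst _ _))
  have hreg : ∀ z : (f.fiberι c).ker.subscheme,
      IsRegularLocalRing ((f.fiberι c).ker.subscheme.presheaf.stalk z) :=
    isRegular_kerSubscheme (f.fiberι c) fun y => by
      haveI := hsm
      exact WeilExtLib.isRegular_stalk_smooth (R := Cb.residueField c) (f.fiberToSpecResidueField c) y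
  have hdis : ∀ x ∈ closure ({c₁} : Set X), x ∉ R.support := fun x hx =>
    notMem_of_regular hRe.symm hC hR hreg (by
      show x ∈ ((ptIdeal c₁).support : Set X)
      rwa [Scheme.IdealSheafData.coe_support_vanishingIdeal])
  refine ⟨?_, ?_⟩
  · -- the degree of `O(-C)` on `C`
    have hIR := IntMultLib.isInvertible_idealMod R hR
    have hD := MiscFlat6.dual_isInvertible hIR
    obtain ⟨e⟩ := MiscFlat6.nonempty_dualIso hIR
    obtain ⟨φ, -, hφ⟩ := SurfNumLib.exists_section_inverse hIR hD (swapIso _ _ ≪≫ e)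
      (SurfNumLib.effCartier_ne_bot hR)
    have hRzero : N k [MiscFlat6.dual (ClSub.idealMod R)] (Fpt c₁) = 0 :=
      N_zero_of_section hD φ hc₁ fun x hx => by rw [hφ]; exact hdis x hx
    have hFd : topologicalKrullDim (CohB1.support (Fpt c₁)) ≤ ((1 : ℕ) : WithBot ℕ∞) := by
      rw [supp_Fpt k]; exact hc₁.le
    have hR0 : N k [ClSub.idealMod R] (Fpt c₁) = 0 := by
      have h := N_inv_head (k := k) (l := []) hIR hD e (by simp) (coh_Fpt k c₁) (by simpa using hFd)
      change N k [MiscFlat6.dual (ClSub.idealMod R)] (Fpt c₁) = -N k [ClSub.idealMod R] (Fpt c₁) at h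
      omega
    have hF0 : N k [ClSub.idealMod (f.fiberι c).ker] (Fpt c₁) = 0 := by
      obtain ⟨eF⟩ := SurfAmpleLib.nonempty_fibreIdeal_iso k hB f hc
      rw [N_congr_head eF]
      refine SurfAmpleLib.N_pb_vertical f (SurfAmpleLib.isInvertible_ptIdeal k hB hc) hc₁ (q := c) fun z hz => ?_
      have h1 : z ∈ ((f.fiberι c).ker.support : Set X) :=
        (f.fiberι c).ker.support.isClosed.closure_subset_iff.mpr (Set.singleton_subset_iff.mpr hmem) hz
      rw [SurfAmpleLib.ker_fiberι_eq f hc, Scheme.IdealSheafData.support_comap] at h1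
      change f.base z ∈ ((GenusZeroLib.ptIdeal hc).support : Set Cb) at h1
      rwa [Scheme.IdealSheafData.coe_support_vanishingIdeal] at h1
    have h := SurfAmpleLib.N_mul (k := k) hC hR (l := []) (by simp) (coh_Fpt k c₁) (by simpa using hFd)
    rw [hRe, hF0, hR0, add_zero] at h
    exact h.symm
  · -- smoothness
    refine CurveH0Lib.smooth_of_regular k _ fun y => ?_
    obtain ⟨U, hU, hxU, hUR⟩ := exists_isAffineOpen_mem_and_subset
      (show (ptIdeal c₁).subschemeι y ∈ (⟨(R.support : Set X)ᶜ, R.support.isClosed.isOpen_compl⟩ : X.Opens) from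
        hdis _ ((range_ptIdeal c₁).le ⟨y, rfl⟩))
    refine isRegular_of_ideal_eq ⟨U, hU⟩ ?_ hreg y hxU
    have hRU : R.ideal ⟨U, hU⟩ = ⊤ := by
      refine PrimeSpectrum.zeroLocus_empty_iff_eq_top.mp (Set.eq_empty_of_forall_notMem fun q hq => ?_)
      obtain ⟨hz, hzU⟩ := (hU.fromSpec_image_zeroLocus _).le ⟨q, hq, rfl⟩
      exact hUR hzU ((Scheme.IdealSheafData.mem_support_iff_of_mem (U := ⟨U, hU⟩) hzU).2 hz)
    rw [← hRe, Scheme.IdealSheafData.ideal_mul, Pi.mul_apply, hRU, Ideal.mul_top]

end NefBigVanLib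

end
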