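import Groth.Agent.SurfAmpleLib.Ramanujam
import Groth.Agent.SurfAmpleLib.Adj
import Groth.Agent.AdjFormLib.Main
import Groth.Agent.LMLib.End
import Groth.Agent.HopfIneqLib.Sections
import Groth.Agent.SeesawLib.Ranks
import Groth.Agent.CurvLib.EulerTensor
import Groth.Agent.MiscFlat6.TensorGG
import Groth.Agent.QuotSchLib.HomZero
import Groth.Agent.Ref1Lib.Ops
import Groth.Agent.S16491

/-!
# Sections of twisted differentials and a smooth curve of square zero

If `C` is a smooth integral curve on the surface `X` with `O_X(C)|C` of degree zero, and `P` is an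
invertible module with `(P·C) < 0` and `((P + K_X)·C) < 0`, then `Ω_{X/k} ⊗ P` has no sections on
`C`, hence, dividing repeatedly by the equation of `C`, none on `X`.
-/

set_option autoImplicit false
set_option linter.style.haveILetI false
set_option linter.unusedSectionVars false
set_option backward.isDefEq.respectTransparency false
set_option backward.isDefEq.respectTransparency.types false
set_option maxHeartbeats 1000000
universe u

open CategoryTheory CategoryTheory.Limits AlgebraicGeometry TopologicalSpace Opposite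
open HilbPolyLib DevissLib IntMultLib IntFunLib HodgeIdxLib
open KFlatLib (pb)
open CohCmpLib (homMod)

noncomputable section

namespace NefBigVanLib

variable (k : Type u) [Field k] {X : Scheme.{u}} [X.Over (Spec (CommRingCat.of k))]
  [IsProper (X ↘ Spec (CommRingCat.of k))]

include k in
/-- The projection formula on a closed subscheme, for locally free modules. -/
theorem nonempty_quot_push {E : X.Modules} (hE : FlatMod.IsFinLocFree E) (J : X.IdealSheafData) :
    Nonempty ((Coh.push J.subschemeι).obj (pb J.subschemeι E) ≅ CohB1.tensorMod E (ClSub.quotMod J)) := by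
  haveI := CurvLib.isNoetherian k (X := X)
  let pr := @asIso _ _ _ _ (ProjFormLib.projApp J.subschemeι E (Coh.structureModule J.subscheme))
    (ProjFormLib.isIso_projApp J.subschemeι hE (Coh.structureModule J.subscheme))
  exact ⟨(Coh.push J.subschemeι).mapIso (swapIso _ _ ≪≫ unitLeft _).symm ≪≫ pr.symm⟩

variable [IsIntegral X] [IsAlgClosed k] [Smooth (X ↘ Spec (CommRingCat.of k))]

/-- `Ω_{X/k} ⊗ P` has no sections on the curve. -/
theorem h0_omega_curve (hX : topologicalKrullDim X = ((2 : ℕ) : WithBot ℕ∞)) {WX P : X.Modules}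
    (hWX : ExtPow.IsExtPow 2 (Omega.sheaf (X ↘ Spec (CommRingCat.of k))) WX) (hP : PicF.IsInvertible P)
    (C : X.IdealSheafData) [IsIntegral C.subscheme] (hd : topologicalKrullDim (C.support : Set X) = 1)
    (hsm : Smooth (C.subschemeι ≫ (X ↘ Spec (CommRingCat.of k))))
    (hC2 : N k [ClSub.idealMod C] (ClSub.quotMod C) = 0) (hPC : N k [P] (ClSub.quotMod C) < 0)
    (hPW : N k [P] (ClSub.quotMod C) + N k [WX] (ClSub.quotMod C) < 0) :
    hh k (CohB1.tensorMod (CohB1.tensorMod P (Omega.sheaf (X ↘ Spec (CommRingCat.of k)))) (ClSub.quotMod C)) 0 = 0 := by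
  haveI := CurvLib.isNoetherian k (X := X)
  let g := C.subschemeι
  let Y := C.subscheme
  letI : Y.Over (Spec (CommRingCat.of k)) := ⟨g ≫ (X ↘ Spec (CommRingCat.of k))⟩
  haveI : IsProper (Y ↘ Spec (CommRingCat.of k)) :=
    inferInstanceAs (IsProper (g ≫ (X ↘ Spec (CommRingCat.of k))))
  haveI hsmY : Smooth (Y ↘ Spec (CommRingCat.of k)) := hsm
  haveI := CurvLib.isNoetherian k (X := Y)
  have hY : topologicalKrullDim Y = ((1 : ℕ) : WithBot ℕ∞) :=
    ((g.isEmbedding.toHomeomorph.trans
      (Homeomorph.setCongr C.range_subschemeι)).isHomeomorph.topologicalKrullDim_eq).trans (by rw [hd, Nat.cast_one])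
  have hsrX := SurfNumLib.smoothRel_of_dim (k := k) hX
  have hsrY := SurfNumLib.smoothRel_of_dim (k := k) hY
  haveI := hsrX
  haveI hsrY' : SmoothOfRelativeDimension 1 (g ≫ (X ↘ Spec (CommRingCat.of k))) := hsrY
  haveI : Smooth (g ≫ (X ↘ Spec (CommRingCat.of k))) := hsm
  -- the conormal sequence
  let s := X ↘ Spec (CommRingCat.of k)
  let Ω := Omega.sheaf s
  let ΩY := Omega.sheaf (g ≫ s)
  have hΩX : FlatMod.IsFinLocFreeOfRank 2 Ω := CohCmpLib.rank_omega s 2
  have hΩY : FlatMod.IsFinLocFreeOfRank 1 ΩY := CohCmpLib.rank_omega (g ≫ s) 1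
  haveI : Coh.IsQCoh Ω := (CurvLib.isCoh_of_locFree hΩX).1
  haveI : Coh.IsQCoh ΩY := (CurvLib.isCoh_of_locFree hΩY).1
  have hd1 : OmegaSh.IsUniversal (OmegaSh.dOmega s) := OmegaAffLib.isUniversal_dOmega
  have hd2 : OmegaSh.IsUniversal (OmegaSh.dOmega (g ≫ s)) := OmegaAffLib.isUniversal_dOmega
  obtain ⟨φ, hφ⟩ := ConormalSecLib.exists_conormalDiff g (OmegaSh.dOmega s)
  obtain ⟨ψ, hψ, -⟩ := OmegaAffLib.existsUnique_diffCompat (f' := g ≫ s) (h := g) (b := 𝟙 _)
    (Category.comp_id _) (OmegaSh.dOmega s) hd1 (OmegaSh.dOmega (g ≫ s))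
  obtain ⟨hepi, heq⟩ := Groth.Agent.S5976.result s g _ _ hd1 _ _ hd2 φ hφ ψ hψ
  have hw : φ ≫ ψ = 0 := by
    have h := (imageSubobject_arrow_comp φ).symm
    have : (imageSubobject φ).arrow ≫ ψ = 0 := by
      rw [← Subobject.ofLE_arrow (X := imageSubobject φ) (Y := kernelSubobject ψ) heq.le, Category.assoc,
        kernelSubobject_arrow_comp, comp_zero]
    rw [h, Category.assoc, this, comp_zero]
  have hex : (ShortComplex.mk φ ψ hw).Exact := (ShortComplex.exact_iff_image_eq_kernel _).2 heq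
  -- the conormal module is invertible of degree zero
  have hCc := SurfAmpleLib.isEffCartier_curve' k hX C hd
  have hI := IntMultLib.isInvertible_idealMod C hCc
  have hker : g.ker = C := C.ker_subschemeι
  have hcon : PicF.IsInvertible (Omega.conormal g) := by
    change PicF.IsInvertible (pb g (ClSub.idealMod g.ker))
    rw [hker]
    exact AmpleDevLib.isInvertible_pb g hI
  have hKrank : FlatMod.IsFinLocFreeOfRank 1 (Omega.conormal g) := CurvLib.locFree_of_isInvertible hcon
  have hPΩ : FlatMod.IsFinLocFreeOfRank 2 (pb g Ω) := SeesawLib.isFinLocFreeOfRank_pullback g hΩX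
  haveI : Mono φ := CohCmpLib.mono_of_stalk_injective fun y => by
    obtain ⟨eK⟩ := CurvLib.nonempty_stalk_pi_of_locFree hKrank y
    obtain ⟨eP⟩ := CurvLib.nonempty_stalk_pi_of_locFree hPΩ y
    obtain ⟨eY⟩ := CurvLib.nonempty_stalk_pi_of_locFree hΩY y
    have hx := (ShortComplex.moduleCat_exact_iff _).1 (hex.map (DerSch.stalkFunctor Y y))
    let R := Y.presheaf.stalk y
    let F := ((St y).map φ).hom
    rw [← LinearMap.ker_eq_bot, eq_bot_iff]
    intro a ha
    by_contra ha0
    rw [Submodule.mem_bot] at ha0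
    -- otherwise the map is zero, and the rank two module embeds into one of rank one
    have hF : ∀ b, F b = 0 := fun b => by
      have hc : (eK b 0) • a = (eK a 0) • b := eK.injective (funext fun i => by
        rw [map_smul, map_smul]
        fin_cases i
        show eK b 0 * eK a 0 = eK a 0 * eK b 0
        ring)
      have h0 := congrArg F hc
      rw [map_smul, map_smul, show F a = 0 from ha, smul_zero] at h0
      have hne : eK a 0 ≠ 0 := fun h => ha0 (eK.injective (funext fun i => by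
        fin_cases i
        rw [map_zero]
        exact h))
      refine eP.injective (funext fun i => ?_)
      have h1 := congrFun (congrArg eP h0.symm) i
      rw [map_smul, map_zero] at h1
      exact ((mul_eq_zero.1 (show eK a 0 * eP (F b) i = 0 from h1)).resolve_left hne).trans (by rw [map_zero]; rfl)
    have hinj : Function.Injective ((St y).map ψ).hom := by
      rw [← LinearMap.ker_eq_bot, eq_bot_iff]
      intro v hv
      obtain ⟨b, hb⟩ := hx v hv
      rw [Submodule.mem_bot, ← hb]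
      exact hF b
    have hle := LinearMap.finrank_le_finrank_of_injective
      (f := (eY.toLinearMap ∘ₗ ((St y).map ψ).hom) ∘ₗ eP.symm.toLinearMap)
      (eY.injective.comp (hinj.comp eP.symm.injective))
    rw [Module.finrank_fin_fun, Module.finrank_fin_fun] at hle
    omega
  haveI : Epi ψ := hepi
  have hS : (ShortComplex.mk φ ψ hw).ShortExact := { exact := hex, mono_f := ‹_›, epi_g := hepi }
  -- degrees
  have hYd : topologicalKrullDim (CohB1.support (Coh.structureModule Y)) ≤ ((1 : ℕ) : WithBot ℕ∞) :=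
    (topologicalKrullDim_subspace_le _ _).trans hY.le
  have hpush : ∀ A : X.Modules, PicF.IsInvertible A →
      N k [pb g A] (Coh.structureModule Y) = N k [A] (ClSub.quotMod C) := fun A hA =>
    N_push (k := k) rfl (l := [A]) (by simpa using hA) (DevissLib.isCoh_structureModule Y)
      (by simpa using hYd)
  have hconN : N k [Omega.conormal g] (Coh.structureModule Y) = 0 := by
    change N k [pb g (ClSub.idealMod g.ker)] _ = 0
    rw [hker, hpush _ hI, hC2]
  have hWi := SurfAmpleLib.isInvertible_canonical hX hWX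
  have hΩYi : PicF.IsInvertible ΩY := Groth.Agent.S16491.isInvertible_of_rank_one hΩY
  obtain ⟨eW⟩ := (AdjFormLib.regularImmersion_and_iso s g 2 1 WX hWX ΩY (LMLib.isExtPow_one ΩY)).2.2
    (Omega.conormal g) (LMLib.isExtPow_one _)
  have hΩN : N k [ΩY] (Coh.structureModule Y) = N k [WX] (ClSub.quotMod C) := by
    have h := N_congr_head (k := k) eW [] (Coh.structureModule Y)
    rw [hpush _ hWi, N_tensor (k := k) (l := []) (by simp) hΩYi hcon (DevissLib.isCoh_structureModule Y)
      (by simpa using hYd), hconN, add_zero] at h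
    exact h.symm
  -- twist by `P`
  have hPY := AmpleDevLib.isInvertible_pb g hP
  have hPN := hpush P hP
  have hT := HilbPolyLib.shortExact_tensor hPY hS
  have hb1 : hh k (CohB1.tensorMod (pb g P) (Omega.conormal g)) 0 = 0 := by
    refine (SurfAmpleLib.h0_bound_curve (k := k) (by rw [hY, Nat.cast_one])
      (HilbPolyLib.isInvertible_tensor hPY hcon) ?_).2.1 ?_ <;>
      rw [N_tensor (k := k) (l := []) (by simp) hPY hcon (DevissLib.isCoh_structureModule Y)
        (by simpa using hYd), hconN, hPN] <;> omega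
  have hb2 : hh k (CohB1.tensorMod (pb g P) ΩY) 0 = 0 := by
    refine (SurfAmpleLib.h0_bound_curve (k := k) (by rw [hY, Nat.cast_one])
      (HilbPolyLib.isInvertible_tensor hPY hΩYi) ?_).2.1 ?_ <;>
      rw [N_tensor (k := k) (l := []) (by simp) hPY hΩYi (DevissLib.isCoh_structureModule Y)
        (by simpa using hYd), hΩN, hPN] <;> omega
  have hle := SurfAmpleLib.hh_le_mid (k := k) hT
    (HilbPolyLib.isCoh_tensor hPY (CurvLib.isCoh_of_isInvertible hcon))
    (HilbPolyLib.isCoh_tensor hPY (CurvLib.isCoh_of_locFree hPΩ))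
    (HilbPolyLib.isCoh_tensor hPY (CurvLib.isCoh_of_locFree hΩY)) 0
  change hh k (CohB1.tensorMod (pb g P) (pb g Ω)) 0 ≤
    hh k (CohB1.tensorMod (pb g P) (Omega.conormal g)) 0 + hh k (CohB1.tensorMod (pb g P) ΩY) 0 at hle
  rw [hb1, hb2] at hle
  -- back to `X`
  have hE : FlatMod.IsFinLocFree (CohB1.tensorMod P Ω) := CurveVBLib.isFinLocFree_of_rank
    (HopfIneqLib.locFree_tensor (CurvLib.locFree_of_isInvertible hP) hΩX)
  obtain ⟨e⟩ := nonempty_quot_push k hE C
  haveI := KFlatLib.isIso_pullθ g P Ω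
  haveI : Coh.IsQCoh (pb g (CohB1.tensorMod P Ω)) :=
    (CurvLib.isCoh_of_locFree (SeesawLib.isFinLocFreeOfRank_pullback g
      (HopfIneqLib.locFree_tensor (CurvLib.locFree_of_isInvertible hP) hΩX))).1
  have hfin : hh k (pb g (CohB1.tensorMod P Ω)) 0 = hh k (CohB1.tensorMod (pb g P) (pb g Ω)) 0 :=
    hh_congr (k := k) (asIso (KFlatLib.pullθ g P Ω)) 0
  have htr : hh k (CohB1.tensorMod (CohB1.tensorMod P Ω) (ClSub.quotMod C)) 0 =
      hh k (pb g (CohB1.tensorMod P Ω)) 0 := by
    rw [← hh_congr (k := k) e 0]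
    exact ((PushLinLib.euler_push k g rfl _).1 0).symm
  exact htr.trans (hfin.trans (Nat.le_zero.1 (hle.trans (Nat.add_zero 0).le)))

/-- Dividing the sections of `Ω_{X/k} ⊗ P` by the equation of `C`. -/
theorem h0_omega_step (hX : topologicalKrullDim X = ((2 : ℕ) : WithBot ℕ∞)) {WX P : X.Modules}
    (hWX : ExtPow.IsExtPow 2 (Omega.sheaf (X ↘ Spec (CommRingCat.of k))) WX) (hP : PicF.IsInvertible P)
    (C : X.IdealSheafData) [IsIntegral C.subscheme] (hd : topologicalKrullDim (C.support : Set X) = 1)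
    (hsm : Smooth (C.subschemeι ≫ (X ↘ Spec (CommRingCat.of k))))
    (hC2 : N k [ClSub.idealMod C] (ClSub.quotMod C) = 0) (hPC : N k [P] (ClSub.quotMod C) < 0)
    (hPW : N k [P] (ClSub.quotMod C) + N k [WX] (ClSub.quotMod C) < 0) (n : ℕ) :
    hh k (CohB1.tensorMod P (Omega.sheaf (X ↘ Spec (CommRingCat.of k)))) 0 ≤
      hh k (CohB1.tensorMod (CohB1.tensorMod P (CohB1.tensorPow (ClSub.idealMod C) n))
        (Omega.sheaf (X ↘ Spec (CommRingCat.of k)))) 0 := by
  haveI := CurvLib.isNoetherian k (X := X)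
  haveI := SurfNumLib.smoothRel_of_dim (k := k) hX
  let Ω := Omega.sheaf (X ↘ Spec (CommRingCat.of k))
  have hΩX : FlatMod.IsFinLocFreeOfRank 2 Ω := CohCmpLib.rank_omega _ 2
  have hCc := SurfAmpleLib.isEffCartier_curve' k hX C hd
  have hI := IntMultLib.isInvertible_idealMod C hCc
  have hCd : topologicalKrullDim (CohB1.support (ClSub.quotMod C)) ≤ ((1 : ℕ) : WithBot ℕ∞) := by
    rw [SurfNumLib.support_quotMod_eq, hd, Nat.cast_one]
  induction n with
  | zero =>
    exact (hh_congr (k := k) (congrLeft (swapIso P (Coh.structureModule X) ≪≫ unitLeft P) Ω) 0).ge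
  | succ n ih =>
    refine ih.trans ?_
    have hn := AmpleThLib.tensorPow_isInvertible hI n
    have hPn := HilbPolyLib.isInvertible_tensor hP hn
    have hNn : N k [CohB1.tensorMod P (CohB1.tensorPow (ClSub.idealMod C) n)] (ClSub.quotMod C) =
        N k [P] (ClSub.quotMod C) := by
      rw [N_tensor (k := k) (l := []) (by simp) hP hn (CurvLib.isCoh_quotMod C) (by simpa using hCd),
        N_pow (k := k) (l := []) (by simp) hI (CurvLib.isCoh_quotMod C) (by simpa using hCd) n, hC2,
        mul_zero, add_zero]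
    have h0 := h0_omega_curve k hX hWX hPn C hd hsm hC2 (by rw [hNn]; exact hPC) (by rw [hNn]; exact hPW)
    have hE := HopfIneqLib.locFree_tensor (CurvLib.locFree_of_isInvertible hPn) hΩX
    have hT := (CurvLib.idealSeq_shortExact C)
    -- tensor with the invertible part, then with the differentials
    have hS' : ((CurvLib.idealSeq C).map (CurvLib.tensorLeft'
        (CohB1.tensorMod (CohB1.tensorMod P (CohB1.tensorPow (ClSub.idealMod C) n)) Ω))).ShortExact :=
      CurvLib.shortExact_tensor_locFree hE hT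
    have hc : Coh.IsCoh (CohB1.tensorMod (CohB1.tensorMod P (CohB1.tensorPow (ClSub.idealMod C) n)) Ω) :=
      CurvLib.isCoh_of_locFree hE
    have hle := SurfAmpleLib.hh_le_mid (k := k) hS'
      (QCohLib.isCoh_of_iso (swapIso _ _) (HilbPolyLib.isCoh_tensor hI hc))
      (QCohLib.isCoh_of_iso (swapIso _ _ ≪≫ unitLeft _).symm hc)
      (Ref1Lib.isCoh_tensor hc (CurvLib.isCoh_quotMod C)) 0
    change hh k (CohB1.tensorMod (CohB1.tensorMod (CohB1.tensorMod P (CohB1.tensorPow (ClSub.idealMod C) n)) Ω)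
        (Coh.structureModule X)) 0 ≤ _ at hle
    rw [hh_congr (k := k) (swapIso _ _ ≪≫ unitLeft _) 0] at hle
    refine hle.trans ?_
    change hh k (CohB1.tensorMod (CohB1.tensorMod (CohB1.tensorMod P _) Ω) (ClSub.idealMod C)) 0 +
      hh k (CohB1.tensorMod (CohB1.tensorMod (CohB1.tensorMod P _) Ω) (ClSub.quotMod C)) 0 ≤ _
    rw [h0, add_zero]
    exact (hh_congr (k := k) (assocIso _ _ _ ≪≫ congrRight _ (swapIso _ _) ≪≫ (assocIso _ _ _).symm ≪≫
      congrLeft (assocIso _ _ _) Ω) 0).le

omit [X.Over (Spec (CommRingCat.of k))] [IsProper (X ↘ Spec (CommRingCat.of k))] [IsIntegral X] in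
/-- A nonzero map out of a module with generated twist gives a section. -/
theorem exists_section_of_hom {A T B : X.Modules} (hB : PicF.IsInvertible B)
    (h : Curv2.IsGloballyGenerated (CohB1.tensorMod A B)) (ψ : A ⟶ T) (hψ : ψ ≠ 0) :
    ∃ φ : Coh.structureModule X ⟶ CohB1.tensorMod T B, φ ≠ 0 := by
  obtain ⟨ι, q, hq⟩ := h
  have hψ' : (swapIso A B).hom ≫ (CurvLib.tensorLeft' B).map ψ ≫ (swapIso B T).hom ≠ 0 := fun h0 => by
    refine hψ ((QuotSchLib.tensor_map_eq_zero_iff hB ψ).1 ?_)
    rw [← cancel_epi (swapIso A B).hom, ← cancel_mono (swapIso B T).hom, comp_zero, zero_comp, Category.assoc]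
    exact h0
  obtain ⟨i, hi⟩ : ∃ i, Sigma.ι (fun _ : ι => (SheafOfModules.unit X.ringCatSheaf : X.Modules)) i ≫ q ≫
      ((swapIso A B).hom ≫ (CurvLib.tensorLeft' B).map ψ ≫ (swapIso B T).hom) ≠ 0 := by
    by_contra h
    push Not at h
    refine hψ' ((cancel_epi q).1 ?_)
    rw [comp_zero]
    exact Sigma.hom_ext _ _ fun i => (h i).trans comp_zero.symm
  exact ⟨_, hi⟩

/-- High powers of an invertible module of negative degree kill the sections of a bundle. -/
theorem exists_pow_h0_zero (hX : topologicalKrullDim X = ((2 : ℕ) : WithBot ℕ∞)) {r : ℕ} {G I H : X.Modules}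
    (hGr : FlatMod.IsFinLocFreeOfRank r G) (hI : PicF.IsInvertible I) (hH : CohB1.IsAmple H)
    (hIH : pr k I H < 0) : ∃ n : ℕ, hh k (CohB1.tensorMod G (CohB1.tensorPow I n)) 0 = 0 := by
  haveI := CurvLib.isNoetherian k (X := X)
  have hG : FlatMod.IsFinLocFree G := CurveVBLib.isFinLocFree_of_rank hGr
  have hGd : FlatMod.IsFinLocFree (ChernOpLib.du G) :=
    CurveVBLib.isFinLocFree_of_rank (CycTopLib.rank_homMod hGr
      (CurvLib.locFree_of_isInvertible CurvLib.isInvertible_structureModule))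
  obtain ⟨M, hM⟩ := MiscFlat6.eventually_gg_of_isAmple hH _ (LocSuppLib.isCoh_of_isFinLocFree hGd)
  obtain ⟨n, hn⟩ : ∃ n : ℕ, (M : ℤ) * pr k H H + 1 ≤ (n : ℤ) := ⟨_, Int.self_le_toNat _⟩
  have hIn := AmpleThLib.tensorPow_isInvertible hI n
  have hHM := AmpleThLib.tensorPow_isInvertible hH.1 M
  refine ⟨n, ?_⟩
  by_contra hpos
  obtain ⟨u⟩ := LMLib.exists_homMod_iso_tensor hGd (CohB1.tensorPow I n)
  obtain ⟨b⟩ := LMLib.exists_bidual hG
  have hhom : Module.finrank k (ChernOpLib.du G ⟶ CohB1.tensorPow I n) ≠ 0 := by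
    rw [← LMLib.finrank_h0_homMod k]
    change hh k (homMod _ _) 0 ≠ 0
    rwa [hh_congr (k := k) (u ≪≫ congrLeft b _) 0]
  obtain ⟨ψ, hψ⟩ : ∃ ψ : ChernOpLib.du G ⟶ CohB1.tensorPow I n, ψ ≠ 0 := by
    by_contra h
    push Not at h
    haveI : Subsingleton (ChernOpLib.du G ⟶ CohB1.tensorPow I n) :=
      ⟨fun a b => (h a).trans (h b).symm⟩
    exact hhom Module.finrank_zero_of_subsingleton
  obtain ⟨φ, hφ⟩ := exists_section_of_hom hHM (hM M le_rfl) ψ hψ
  have h := nonneg_of_section (k := k) hX (HilbPolyLib.isInvertible_tensor hIn hHM) hH hφ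
  change 0 ≤ pr k (CohB1.tensorMod (CohB1.tensorPow I n) (CohB1.tensorPow H M)) H at h
  rw [pr_tensor hX.le hIn hHM hH.1, pr, pr, N2_pow_left hX.le hI hH.1, N2_pow_left hX.le hH.1 hH.1] at h
  change 0 ≤ (n : ℤ) * pr k I H + (M : ℤ) * pr k H H at h
  nlinarith [Int.natCast_nonneg n]

/-- `Ω_{X/k} ⊗ P` has no sections. -/
theorem h0_omega_eq_zero (hX : topologicalKrullDim X = ((2 : ℕ) : WithBot ℕ∞)) {WX P : X.Modules}
    (hWX : ExtPow.IsExtPow 2 (Omega.sheaf (X ↘ Spec (CommRingCat.of k))) WX) (hP : PicF.IsInvertible P)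
    (C : X.IdealSheafData) [IsIntegral C.subscheme] (hd : topologicalKrullDim (C.support : Set X) = 1)
    (hsm : Smooth (C.subschemeι ≫ (X ↘ Spec (CommRingCat.of k))))
    (hC2 : N k [ClSub.idealMod C] (ClSub.quotMod C) = 0) (hPC : N k [P] (ClSub.quotMod C) < 0)
    (hPW : N k [P] (ClSub.quotMod C) + N k [WX] (ClSub.quotMod C) < 0) :
    hh k (CohB1.tensorMod P (Omega.sheaf (X ↘ Spec (CommRingCat.of k)))) 0 = 0 := by
  haveI := CurvLib.isNoetherian k (X := X)
  haveI := SurfNumLib.smoothRel_of_dim (k := k) hX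
  have hCc := SurfAmpleLib.isEffCartier_curve' k hX C hd
  obtain ⟨H, hH⟩ := SurfAmpleLib.exists_ample_of_smooth k hX
  have hG := HopfIneqLib.locFree_tensor (CurvLib.locFree_of_isInvertible hP)
    (CohCmpLib.rank_omega (X ↘ Spec (CommRingCat.of k)) 2)
  obtain ⟨n, hn⟩ := exists_pow_h0_zero k hX hG (IntMultLib.isInvertible_idealMod C hCc) hH
    (SurfNumLib.pr_effCartier_pos (k := k) hX hCc (SurfNumLib.ne_top_of_dim hd) hH)
  refine Nat.le_zero.1 ((h0_omega_step k hX hWX hP C hd hsm hC2 hPC hPW n).trans (le_of_eq ?_))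
  exact (hh_congr (k := k) (assocIso _ _ _ ≪≫ congrRight P (swapIso _ _) ≪≫
    (assocIso P (Omega.sheaf (X ↘ Spec (CommRingCat.of k))) _).symm) 0).trans hn

end NefBigVanLib

end
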